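import Groth.Agent.VBCurve.K589.SubPush
import Groth.Agent.S1612
import Groth.Agent.VarietyA.CurveFin

/-!
# Classes of graphs and degrees on a curve

* `cD_graph`: `[Δ_a] ∩ [T × C] = [graph of a]`;
* `degT_C1_fund`: `deg (c_1(L) ∩ [C]) = deg L`; `degT_cP_fund`, `degT_diag_fund`.
-/

set_option autoImplicit false
universe u
open CategoryTheory CategoryTheory.Limits AlgebraicGeometry Cyc

namespace K589.SubPush

open K553.Sub K308.Grp Groth.Agent Groth.Agent.VBCurve.K569.SubInv

variable {k : Type u} [Field k]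

/-- The graph of `a` is the preimage of the diagonal. -/
theorem graph_pb {S T C : Scheme.{u}} (t : T ⟶ S) (c : C ⟶ S) (a : T ⟶ C) (_ha : a ≫ c = t)
    (w1 : 𝟙 T ≫ t = a ≫ c) (w2 : (pullback.fst t c ≫ a) ≫ c = pullback.snd t c ≫ c) :
    IsPullback a (pullback.lift (𝟙 T) a w1) (pullback.diagonal c)
      (pullback.lift (pullback.fst t c ≫ a) (pullback.snd t c) w2) := by
  have key : ∀ {Z : Scheme.{u}} (p : Z ⟶ C) (q : Z ⟶ pullback t c)
      (_ : p ≫ pullback.diagonal c = q ≫ pullback.lift (pullback.fst t c ≫ a) (pullback.snd t c) w2),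
      p = (q ≫ pullback.fst t c) ≫ a ∧ p = q ≫ pullback.snd t c := by
    intro Z p q h
    constructor
    · have h1 := congrArg (fun z => z ≫ pullback.fst c c) h
      simp only [Category.assoc] at h1
      rw [pullback.diagonal_fst, Category.comp_id, pullback.lift_fst] at h1
      rw [h1, Category.assoc]
    · have h1 := congrArg (fun z => z ≫ pullback.snd c c) h
      simp only [Category.assoc] at h1
      rw [pullback.diagonal_snd, Category.comp_id, pullback.lift_snd] at h1
      exact h1
  refine ⟨⟨?_⟩, ⟨PullbackCone.IsLimit.mk _ (fun s => s.snd ≫ pullback.fst t c) ?_ ?_ ?_⟩⟩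
  · apply pullback.hom_ext
    · rw [Category.assoc, Category.assoc, pullback.diagonal_fst, pullback.lift_fst, Category.comp_id,
        ← Category.assoc, pullback.lift_fst, Category.id_comp]
    · rw [Category.assoc, Category.assoc, pullback.diagonal_snd, pullback.lift_snd, Category.comp_id,
        pullback.lift_snd]
  · intro s
    exact (key s.fst s.snd s.condition).1.symm
  · intro s
    obtain ⟨h1, h2⟩ := key s.fst s.snd s.condition
    apply pullback.hom_ext
    · rw [Category.assoc, pullback.lift_fst, Category.comp_id]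
    · rw [Category.assoc, pullback.lift_snd, ← h1, h2]
  · intro s m hm1 hm2
    rw [← hm2, Category.assoc, pullback.lift_fst, Category.comp_id]

section graph

variable [IsAlgClosed k] (C : Over (Spec (CommRingCat.of k)))
  [IsIntegral C.left] [IsProper C.hom] [Smooth C.hom] (hdim : topologicalKrullDim C.left = 1)

omit [IsAlgClosed k] [IsIntegral C.left] [IsProper C.hom] [Smooth C.hom] in
/-- The graph of `a` is the preimage of the diagonal. -/
theorem isPullback_graph {T : Over (Spec (CommRingCat.of k))} (a : T ⟶ C) :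
    IsPullback a.left (lft (𝟙 T) a).left (pullback.diagonal C.hom) (K553.Sub.pair (pr C T ≫ a) (qr C T)) :=
  graph_pb T.hom C.hom a.left (Over.w a) (by rw [Category.id_comp, Over.w])
    (by rw [Category.assoc, Over.w, pullback.condition])

omit [IsAlgClosed k] [IsIntegral C.left] [IsProper C.hom] in
include hdim in
theorem smooth_pr_one [IsIntegral C.left] (T : Over (Spec (CommRingCat.of k))) :
    SmoothOfRelativeDimension 1 (pr C T).left := by
  have := smooth_one C hdim
  have hst : MorphismProperty.IsStableUnderBaseChange (@SmoothOfRelativeDimension 1) :=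
    smoothOfRelativeDimension_isStableUnderBaseChange 1
  exact MorphismProperty.pullback_fst _ _ this

omit [IsAlgClosed k] [IsIntegral C.left] [IsProper C.hom] [Smooth C.hom] in
theorem lft_fst {T : Over (Spec (CommRingCat.of k))} (a : T ⟶ C) :
    (lft (𝟙 T) a).left ≫ (pr C T).left = 𝟙 T.left := pullback.lift_fst _ _ _

instance isSeparated_pr (T : Over (Spec (CommRingCat.of k))) : IsSeparated (pr C T).left :=
  inferInstanceAs (IsSeparated (pullback.fst T.hom C.hom))

instance isProper_pr (T : Over (Spec (CommRingCat.of k))) : IsProper (pr C T).left :=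
  inferInstanceAs (IsProper (pullback.fst T.hom C.hom))

instance isProper_TX (T : Over (Spec (CommRingCat.of k))) [IsProper T.hom] : IsProper (TX C T).hom :=
  inferInstanceAs (IsProper (pullback.fst T.hom C.hom ≫ T.hom))

instance isClosedImmersion_graph {T : Over (Spec (CommRingCat.of k))} (a : T ⟶ C) :
    IsClosedImmersion (lft (𝟙 T) a).left :=
  isClosedImmersion_section (pr C T).left _ (lft_fst C a)

include hdim in
theorem nonempty_D_graph {T : Over (Spec (CommRingCat.of k))} (a : T ⟶ C) :
    Nonempty (D (pr C T ≫ a) (qr C T) ≅ ClSub.idealMod (lft (𝟙 T) a).left.ker) := by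
  have := smooth_pr_one C hdim T
  have h1 := isEff_section (pr C T).left (lft (𝟙 T) a).left (lft_fst C a)
  have h2 := Picfga.SecGraph.ker_eq_comap_of_isPullback (isPullback_graph C a)
  rw [h2] at h1 ⊢
  exact Dix.IdealModCartier.pullback_idealMod _ (isEff_diag C hdim) h1

include hdim in
theorem cD_graph {T : Over (Spec (CommRingCat.of k))} [IsProper T.hom] [IsIntegral T.left]
    [IsIntegral (TX C T).left] (a : T ⟶ C)
    (hm : dlt T (genericPoint T.left) = dlt (TX C T) (genericPoint (TX C T).left) - 1) :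
    cD (pr C T ≫ a) (qr C T) (fund (TX C T)) = pushT (lft (𝟙 T) a) (fund T) := by
  obtain ⟨e⟩ := nonempty_D_graph C hdim a
  have hinv : PicF.IsInvertible (ClSub.idealMod (lft (𝟙 T) a).left.ker) := by
    have := smooth_pr_one C hdim T
    exact Dix.IdealModCartier.isInvertible_idealMod
      (isEff_section (pr C T).left (lft (𝟙 T) a).left (lft_fst C a))
  have hfund : ∀ (Z : Over (Spec (CommRingCat.of k))) [LocallyOfFiniteType Z.hom] [IsIntegral Z.left],
      ⇑(K306.PtCyc.ptCyc (genericPoint Z.left)) =
        subschemeFun (dlt Z) (dlt Z (genericPoint Z.left)) (𝟙 Z.left) := by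
    intro Z _ _
    funext x
    classical
    rw [Groth.Agent.VBCurve.K323.SubChow.fund_apply (dlt_setup Z).2.2]
    by_cases hx : x = genericPoint Z.left
    · rw [if_pos hx, hx]
      exact K306.PtCyc.ptCyc_self _
    · rw [if_neg hx]
      exact K306.PtCyc.ptCyc_of_ne hx
  have hβ : ⇑(AlgebraicCycle.map (lft (𝟙 T) a).left (dlt T) (dlt (TX C T))
      (K306.PtCyc.ptCyc (genericPoint T.left))) =
      subschemeFun (dlt (TX C T)) (dlt T (genericPoint T.left)) (lft (𝟙 T) a).left :=
    K308.Grp.map_fund _ (pushT_compat (lft (𝟙 T) a)) (hfund T)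
  have h1 := Groth.Agent.VBCurve.K323.SubChow.C1_idealMod (dlt_setup (TX C T)) (lft (𝟙 T) a).left hinv
    (hfund (TX C T)) hm hβ
  rw [cD, end_neg_apply, C1_congr (dlt (TX C T)) e, fund, h1, neg_neg]
  rfl

end graph

section curve

variable [IsAlgClosed k] (C : Over (Spec (CommRingCat.of k)))
  [IsIntegral C.left] [IsProper C.hom] [Smooth C.hom] (hdim : topologicalKrullDim C.left = 1)

omit [Smooth C.hom] in
include hdim in
theorem degT_C1_fund (L : C.left.Modules) (hL : PicF.IsInvertible L) :
    degT C (C1 (dlt C) L (fund C)) = Curv2.deg k C.left L 1 := by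
  have hp : IsProper (C.left ↘ Spec (CommRingCat.of k)) := ‹IsProper C.hom›
  rw [degT_eq]
  refine degG_c1 (X := C.left) hdim.le (dlt_setup C) (dlt_compat C) hL ?_
  funext x
  have h1 := dlt_generic (T := C) (n := 1) (by rw [hdim]; norm_num)
  classical
  have h2 := Groth.Agent.VBCurve.K323.SubChow.fund_apply (dlt_setup C).2.2 x
  rw [h1] at h2
  rw [show ((1 : ℕ) : ℤ) = 1 from rfl] at h2
  rw [h2]
  by_cases hx : x = genericPoint C.left
  · rw [if_pos hx, hx]
    exact K306.PtCyc.ptCyc_self _
  · rw [if_neg hx]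
    exact K306.PtCyc.ptCyc_of_ne hx

include hdim in
theorem degT_cD_fund (a b : C ⟶ C) : degT C (cD a b (fund C)) = - Curv2.deg k C.left (D a b) 1 := by
  rw [cD, end_neg_apply, degT_neg, degT_C1_fund C hdim _ (isInvertible_D C hdim a b)]

include hdim in
theorem degT_cP_fund (x₀ : pt (Spec (CommRingCat.of k)) ⟶ C) : degT C (cP x₀ (𝟙 C) (fund C)) = 1 := by
  rw [cP, degT_cD_fund C hdim]
  have h := deg_D_cst C hdim x₀
  change - Curv2.deg k C.left (D (cst x₀) (𝟙 C)) 1 = 1
  rw [h, neg_neg]

omit [IsAlgClosed k] [IsIntegral C.left] [IsProper C.hom] [Smooth C.hom] in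
theorem nonempty_D_diag : Nonempty (D (𝟙 C) (𝟙 C) ≅ Omega.sheaf C.hom) := by
  have h : K553.Sub.pair (𝟙 C) (𝟙 C) = pullback.diagonal C.hom := by
    apply pullback.hom_ext
    · rw [K553.Sub.pair, pullback.lift_fst, pullback.diagonal_fst]
      rfl
    · rw [K553.Sub.pair, pullback.lift_snd, pullback.diagonal_snd]
      rfl
  exact ⟨(Scheme.Modules.pullbackCongr h).app (diagMod C)⟩

include hdim in
theorem degT_diag_fund {g : ℕ} (hgen : Curv2.genus k C.left = g) :
    degT C (cD (𝟙 C) (𝟙 C) (fund C)) = 2 - 2 * (g : ℤ) := by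
  obtain ⟨e⟩ := nonempty_D_diag C
  have hp : IsProper (C.left ↘ Spec (CommRingCat.of k)) := ‹IsProper C.hom›
  have h := (S1612.result k C.left ⟨‹IsProper C.hom›, ‹Smooth C.hom›, inferInstance, hdim⟩
    (VarietyA.CurveFin.finrank_h0_structure k C.left)).2
  rw [degT_cD_fund C hdim, CurvesB.SubEuler.deg_congr k e 1]
  change - Curv2.deg k C.left (Omega.sheaf (C.left ↘ Spec (CommRingCat.of k))) 1 = _
  rw [h, hgen]
  ring

end curve

end K589.SubPush
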