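import Groth.Agent.VBCurve.K553.SubChow
import Groth.Agent.VBCurve.K569.SubInv
import Groth.Agent.VBCurve.K471.SubD
import Groth.Agent.VBCurve.K226.Pow
import Groth.Agent.VBCurve.K323.SubDivCap
import Groth.Agent.Cyc.K308.DegG
import Groth.Agent.Cyc.K308.Fund
import Groth.Agent.CycA.MovZ

/-!
# Degrees, pushforward and small dimension on the Chow groups `GT T`

* `degT_eq`, `degT_cl`, `degT_add`, `degT_pushT`: the degree is a homomorphism, invariant under pushforward;
* `pushT_cD`, `pushT_cN`, `pushT_cP`: projection formulas;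
* `Low T j`: the classes of cycles of dimension at most `j`; `C1_low`, `low_neg`, `exists_low`;
* `degT_one`, `degT_two`: the degree of one (two) first Chern classes on a curve (surface) only depends on the
  multiplicity of the fundamental class.
-/

set_option autoImplicit false
universe u
open CategoryTheory CategoryTheory.Limits AlgebraicGeometry Cyc

namespace K589.SubPush

open K553.Sub K308.Grp

variable {k : Type u} [Field k]

section deg

variable {T : Over (Spec (CommRingCat.of k))} [IsProper T.hom]

theorem degT_eq (a : GT T) : degT T a = degG T.hom (dlt_setup T) (dlt_compat T) a := by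
  unfold degT
  rw [← degG_cl T.hom (dlt_setup T) (dlt_compat T), (cl_surjective (dlt T) a).choose_spec]

theorem degT_cl (α : AlgebraicCycle T.left ℤ) :
    degT T (K308.Grp.cl (dlt T) α) = ChowOps.deg T.hom (dlt T) α := by
  rw [degT_eq, degG_cl]

theorem degT_add (a b : GT T) : degT T (a + b) = degT T a + degT T b := by
  rw [degT_eq, degT_eq, degT_eq, map_add]

theorem degT_sub (a b : GT T) : degT T (a - b) = degT T a - degT T b := by
  rw [degT_eq, degT_eq, degT_eq, map_sub]

theorem degT_neg (a : GT T) : degT T (-a) = - degT T a := by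
  rw [degT_eq, degT_eq, map_neg]

theorem degT_zero : degT T 0 = 0 := by
  rw [degT_eq, map_zero]

theorem degT_zsmul (m : ℤ) (a : GT T) : degT T (m • a) = m * degT T a := by
  rw [degT_eq, degT_eq, map_zsmul, smul_eq_mul]

theorem degT_pushT {U : Over (Spec (CommRingCat.of k))} [IsProper U.hom] (f : U ⟶ T)
    [IsProper f.left] (a : GT U) : degT T (pushT f a) = degT U a := by
  rw [degT_eq, degT_eq]
  exact degG_push T.hom (dlt_setup T) (dlt_compat T) U.hom (dlt_setup U) (dlt_compat U) f.left
    (pushT_compat f) (Over.w f) a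

end deg

/-- Morphisms between proper schemes are proper. -/
theorem isProper_left {U T : Over (Spec (CommRingCat.of k))} [IsProper U.hom] [IsSeparated T.hom] (f : U ⟶ T) :
    IsProper f.left := by
  have : IsProper (f.left ≫ T.hom) := by
    rw [Over.w]
    infer_instance
  exact IsProper.of_comp f.left T.hom

/-! ## Projection formulas -/

section proj

variable {U T : Over (Spec (CommRingCat.of k))} [LocallyOfFiniteType U.hom] [LocallyOfFiniteType T.hom]
  (f : U ⟶ T) [IsProper f.left]

theorem pushT_C1 {L : T.left.Modules} (hL : PicF.IsInvertible L) {L' : U.left.Modules}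
    (e : (Scheme.Modules.pullback f.left).obj L ≅ L') (x : GT U) :
    pushT f (C1 (dlt U) L' x) = C1 (dlt T) L (pushT f x) := by
  rw [← C1_congr (dlt U) e]
  exact push_C1 (dlt_setup U) (dlt_setup T) f.left (pushT_compat f) hL x

theorem pushT_cN {C : Over (Spec (CommRingCat.of k))} (N : C.left.Modules) (hN : PicF.IsInvertible N)
    (a : T ⟶ C) (x : GT U) : pushT f (cN N (f ≫ a) x) = cN N a (pushT f x) :=
  pushT_C1 f (Groth.Agent.Fdesc.LocGen.isInvertible_pullback _ hN)
    ((Scheme.Modules.pullbackComp f.left a.left).app N) x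

variable [IsAlgClosed k] (C : Over (Spec (CommRingCat.of k)))
  [IsIntegral C.left] [IsProper C.hom] [Smooth C.hom] (hdim : topologicalKrullDim C.left = 1)

include hdim in
theorem pushT_cD (a b : T ⟶ C) (x : GT U) : pushT f (cD (f ≫ a) (f ≫ b) x) = cD a b (pushT f x) := by
  obtain ⟨e, -⟩ := nonempty_D_pull f a b
  rw [cD, cD, end_neg_apply, end_neg_apply, map_neg, pushT_C1 f (isInvertible_D C hdim a b) e x]

omit [IsAlgClosed k] [LocallyOfFiniteType U.hom] [LocallyOfFiniteType T.hom] [IsProper f.left] in
theorem comp_toPt : f ≫ toPt T = toPt U := by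
  ext1
  exact Over.w f

include hdim in
theorem pushT_cP (x₀ : pt (Spec (CommRingCat.of k)) ⟶ C) (a : T ⟶ C) (x : GT U) :
    pushT f (cP x₀ (f ≫ a) x) = cP x₀ a (pushT f x) := by
  rw [cP, cP, ← comp_toPt f, Category.assoc, pushT_cD f C hdim]

end proj

/-! ## The dimension filtration -/

section low

variable {T : Over (Spec (CommRingCat.of k))} [LocallyOfFiniteType T.hom]

/-- Classes of cycles of dimension at most `j`. -/
def Low (T : Over (Spec (CommRingCat.of k))) [LocallyOfFiniteType T.hom] (j : ℤ) (a : GT T) : Prop :=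
  ∃ α : AlgebraicCycle T.left ℤ, K308.Grp.cl (dlt T) α = a ∧ ∀ x, α x ≠ 0 → dlt T x ≤ j

theorem low_zero (j : ℤ) : Low T j 0 := ⟨0, map_zero _, fun x hx => absurd rfl hx⟩

theorem C1_low {j : ℤ} {a : GT T} (ha : Low T j a) (L : T.left.Modules) : Low T (j - 1) (C1 (dlt T) L a) := by
  by_cases h : IsSetup T.left (dlt T) ∧ PicF.IsInvertible L
  · obtain ⟨α, rfl, hα⟩ := ha
    rw [C1_eq h.1 h.2, c1_cl_capCycle]
    refine ⟨_, rfl, fun x hx => ?_⟩
    rw [coe_capCycle, Groth.Agent.CycB.C1Cap.c1CapFun_apply] at hx
    obtain ⟨ξ, hξ⟩ : ∃ ξ, α ξ * secDivFun (dlt T) L ξ (sec h.2 ξ) x ≠ 0 := by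
      by_contra hcon
      push Not at hcon
      exact hx (finsum_eq_zero_of_forall_eq_zero hcon)
    have h1 := hα ξ (left_ne_zero_of_mul hξ)
    have h2 := (Groth.Agent.CycB.C1Cap.secDivFun_ne_zero (right_ne_zero_of_mul hξ)).2
    omega
  · rw [C1, dif_neg h]
    exact low_zero _

theorem low_neg {j : ℤ} (hj : j < 0) {a : GT T} (ha : Low T j a) : a = 0 := by
  obtain ⟨α, rfl, hα⟩ := ha
  have h : α = 0 := by
    ext x
    by_contra hx
    have h1 := hα x hx
    have h2 := Groth.Agent.CycA.MovZ.delta_nonneg (dlt_compat T) x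
    omega
  rw [h, map_zero]

theorem dlt_generic [IsIntegral T.left] {n : ℕ} (hn : topologicalKrullDim T.left = n) :
    dlt T (genericPoint T.left) = n := by
  obtain ⟨d, h1, h2⟩ := Groth.Agent.CycA.MovZ.topologicalKrullDim_eq T.hom (dlt_compat T)
  rw [hn] at h1
  have h3 : n = d := by exact_mod_cast h1
  rw [h2, h3]

/-- A class is a multiple of the fundamental class up to classes of lower dimension. -/
theorem exists_low [IsIntegral T.left] {n : ℕ} (hn : topologicalKrullDim T.left = n) (a : GT T) :
    ∃ (m : ℤ) (b : GT T), a = m • fund T + b ∧ Low T (n - 1) b := by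
  obtain ⟨α, rfl⟩ := cl_surjective (dlt T) a
  refine ⟨α (genericPoint T.left), K308.Grp.cl (dlt T) (α - α (genericPoint T.left) •
    K306.PtCyc.ptCyc (genericPoint T.left)), ?_, _, rfl, fun x hx => ?_⟩
  · rw [fund, map_sub, map_zsmul]
    abel
  · have hg : x ≠ genericPoint T.left := by
      rintro rfl
      refine hx ?_
      rw [Function.locallyFinsuppWithin.coe_sub, Pi.sub_apply]
      change _ - α (genericPoint T.left) • K306.PtCyc.ptCyc (genericPoint T.left) (genericPoint T.left) = 0
      rw [K306.PtCyc.ptCyc_self, smul_eq_mul, mul_one, sub_self]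
    have h1 := ((dlt_setup T).2.2 (genericPoint T.left) x (genericPoint_specializes x) hg.symm).1
    rw [dlt_generic hn] at h1
    omega

end low

section two

variable {T : Over (Spec (CommRingCat.of k))} [IsProper T.hom] [IsIntegral T.left]

theorem degT_one (hn : topologicalKrullDim T.left = 1) (a : GT T) :
    ∃ m : ℤ, ∀ L : T.left.Modules, degT T (C1 (dlt T) L a) = m * degT T (C1 (dlt T) L (fund T)) := by
  obtain ⟨m, b, rfl, hb⟩ := exists_low (n := 1) (by rw [hn]; norm_num) a
  refine ⟨m, fun L => ?_⟩
  have h1 := low_neg (by norm_num) (C1_low hb L)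
  rw [map_add, map_zsmul, degT_add, degT_zsmul, h1, degT_zero, add_zero]

theorem degT_two (hn : topologicalKrullDim T.left = 2) (a : GT T) :
    ∃ m : ℤ, ∀ L M : T.left.Modules, degT T (C1 (dlt T) L (C1 (dlt T) M a)) =
      m * degT T (C1 (dlt T) L (C1 (dlt T) M (fund T))) := by
  obtain ⟨m, b, rfl, hb⟩ := exists_low (n := 2) (by rw [hn]; norm_num) a
  refine ⟨m, fun L M => ?_⟩
  have h1 := low_neg (by norm_num) (C1_low (C1_low hb M) L)
  rw [map_add, map_zsmul, map_add, map_zsmul, degT_add, degT_zsmul, h1, degT_zero, add_zero]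

/-- On a curve, the product of two first Chern classes is zero. -/
theorem C1_C1_eq_zero (hn : topologicalKrullDim T.left = 1) (a : GT T) (L M : T.left.Modules) :
    C1 (dlt T) L (C1 (dlt T) M a) = 0 := by
  obtain ⟨m, b, rfl, hb⟩ := exists_low (n := 1) (by rw [hn]; norm_num) a
  have hf : Low T 1 (fund T) := by
    refine ⟨_, rfl, fun x hx => ?_⟩
    have hg : x = genericPoint T.left := by
      by_contra h
      exact hx (K306.PtCyc.ptCyc_of_ne h)
    rw [hg, dlt_generic (n := 1) (by rw [hn]; norm_num)]
    norm_num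
  have h1 := low_neg (by norm_num) (C1_low (C1_low hb M) L)
  have h2 := low_neg (by norm_num) (C1_low (C1_low hf M) L)
  rw [map_add, map_zsmul, map_add, map_zsmul, h1, h2, smul_zero, add_zero]

end two

end K589.SubPush
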