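import Groth.Agent.VBCurve.K589.SubGraph

/-!
# Numerical relations on the Chow groups of schemes over a curve (job SUB-REL for S15230)

With `cP x₀ a` (the class of a point pulled back under `a : T ⟶ C`) and
`cδ C x₀ a b = cD a b - cP x₀ a - cP x₀ b`:
`cP x₀ a ^ 2 = 0`, `cP x₀ a * cδ C x₀ a b = 0`, `cδ C x₀ a b ^ 2 = - 2 g • (cP x₀ a * cP x₀ b)` and
`cN N a = deg N • cP x₀ a` numerically.
-/

set_option autoImplicit false
universe u
open CategoryTheory CategoryTheory.Limits AlgebraicGeometry Cyc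

namespace K589.SubPush

open K553.Sub K308.Grp Groth.Agent Groth.Agent.VBCurve.K569.SubInv

variable {k : Type u} [Field k] [IsAlgClosed k] (C : Over (Spec (CommRingCat.of k)))
  [IsIntegral C.left] [IsProper C.hom] [Smooth C.hom] (hdim : topologicalKrullDim C.left = 1)

theorem isIntegral_TX : IsIntegral (TX C C).left := by
  have h0 := K226.Pow.geometricallyIntegral C
  have h3 : IsLocallyNoetherian C.left := LocallyOfFiniteType.isLocallyNoetherian C.hom
  exact inferInstanceAs (IsIntegral (pullback C.hom C.hom))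

include hdim in
theorem dim_TX : topologicalKrullDim (TX C C).left = 2 := by
  have h0 : SmoothOfRelativeDimension 1 C.hom := smooth_one C hdim
  have h1 : SmoothOfRelativeDimension 1 (pullback.fst C.hom C.hom) := smooth_pr_one C hdim C
  have h2 : SmoothOfRelativeDimension (1 + 1) (pullback.fst C.hom C.hom ≫ C.hom) := inferInstance
  have h3 := isIntegral_TX C
  have h4 : SmoothOfRelativeDimension 2 (TX C C).hom := h2
  exact K226.Pow.topologicalKrullDim_eq (TX C C).hom 2

section comp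

variable {T : Over (Spec (CommRingCat.of k))} [LocallyOfFiniteType T.hom]

omit [IsAlgClosed k] [IsIntegral C.left] [IsProper C.hom] [Smooth C.hom] in
theorem cD_comm (a b c d : T ⟶ C) (x : GT T) : cD a b (cD c d x) = cD c d (cD a b x) := by
  have h := DFunLike.congr_fun (C1_commute (dlt T) (D a b) (D c d)).eq x
  simp only [cD, end_neg_apply, map_neg, neg_neg]
  exact h

end comp

section two

variable {T : Over (Spec (CommRingCat.of k))} [IsProper T.hom] [IsIntegral T.left]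

omit [IsAlgClosed k] [IsIntegral C.left] [IsProper C.hom] [Smooth C.hom] in
theorem degT_cD_two (hn : topologicalKrullDim T.left = 2) (x : GT T) : ∃ m : ℤ, ∀ a b c d : T ⟶ C,
    degT T (cD a b (cD c d x)) = m * degT T (cD a b (cD c d (fund T))) := by
  obtain ⟨m, hm⟩ := degT_two hn x
  refine ⟨m, fun a b c d => ?_⟩
  simp only [cD, end_neg_apply, map_neg, neg_neg]
  exact hm _ _

end two

variable (x₀ : pt (Spec (CommRingCat.of k)) ⟶ C)

section values

variable {g : ℕ} (hgen : Curv2.genus k C.left = g) [IsIntegral (TX C C).left]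

include hdim in
theorem cD_fund : cD (pr C C) (qr C C) (fund (TX C C)) = pushT (lft (𝟙 C) (𝟙 C)) (fund C) := by
  have h := cD_graph C hdim (T := C) (𝟙 C) (by
    rw [dlt_generic (n := 1) (by rw [hdim]; norm_num), dlt_generic (n := 2) (by rw [dim_TX C hdim]; norm_num)]
    norm_num)
  rwa [Category.comp_id] at h

include hdim in
theorem cP_fund : cP x₀ (qr C C) (fund (TX C C)) = pushT (lft (𝟙 C) (toPt C ≫ x₀)) (fund C) := by
  have h := cD_graph C hdim (T := C) (toPt C ≫ x₀) (by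
    rw [dlt_generic (n := 1) (by rw [hdim]; norm_num), dlt_generic (n := 2) (by rw [dim_TX C hdim]; norm_num)]
    norm_num)
  rwa [← Category.assoc, comp_toPt] at h

include hdim hgen in
theorem degT_DD : degT (TX C C) (cD (pr C C) (qr C C) (cD (pr C C) (qr C C) (fund (TX C C)))) = 2 - 2 * (g : ℤ) := by
  rw [cD_fund C hdim, ← pushT_cD _ C hdim, degT_pushT, lft_pr, lft_qr, degT_diag_fund C hdim hgen]

include hdim in
theorem degT_P1D : degT (TX C C) (cP x₀ (pr C C) (cD (pr C C) (qr C C) (fund (TX C C)))) = 1 := by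
  rw [cD_fund C hdim, ← pushT_cP _ C hdim, degT_pushT, lft_pr, degT_cP_fund C hdim]

include hdim in
theorem degT_P2D : degT (TX C C) (cP x₀ (qr C C) (cD (pr C C) (qr C C) (fund (TX C C)))) = 1 := by
  rw [cD_fund C hdim, ← pushT_cP _ C hdim, degT_pushT, lft_qr, degT_cP_fund C hdim]

include hdim in
theorem degT_P1P2 : degT (TX C C) (cP x₀ (pr C C) (cP x₀ (qr C C) (fund (TX C C)))) = 1 := by
  rw [cP_fund C hdim, ← pushT_cP _ C hdim, degT_pushT, lft_pr, degT_cP_fund C hdim]

end values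

section gen

variable {T : Over (Spec (CommRingCat.of k))} [IsProper T.hom]

theorem degT_cD_cD {U : Over (Spec (CommRingCat.of k))} [IsProper U.hom] (hdim : topologicalKrullDim C.left = 1)
    (f : T ⟶ U) (a b c d : U ⟶ C) [IsProper f.left] (x : GT T) :
    degT T (cD (f ≫ a) (f ≫ b) (cD (f ≫ c) (f ≫ d) x)) = degT U (cD a b (cD c d (pushT f x))) := by
  rw [← degT_pushT f, pushT_cD _ C hdim, pushT_cD _ C hdim]

omit [IsAlgClosed k] [IsIntegral C.left] [IsProper C.hom] [Smooth C.hom] [IsProper T.hom] in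
theorem cP_comp [LocallyOfFiniteType T.hom] {U : Over (Spec (CommRingCat.of k))} (f : T ⟶ U) (a : U ⟶ C) :
    cP x₀ (f ≫ a) = cD (f ≫ toPt U ≫ x₀) (f ≫ a) := by
  rw [cP, ← Category.assoc f, comp_toPt]

include hdim in
theorem degT_PP (a : T ⟶ C) (x : GT T) : degT T (cP x₀ a (cP x₀ a x)) = 0 := by
  have := isProper_left a
  have h1 := pushT_cP a C hdim x₀ (𝟙 C) (cP x₀ a x)
  have h2 := pushT_cP a C hdim x₀ (𝟙 C) x
  rw [Category.comp_id] at h1 h2
  rw [← degT_pushT a, h1, h2]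
  rw [cP, cD, end_neg_apply, end_neg_apply, map_neg, neg_neg,
    C1_C1_eq_zero (T := C) (by rw [hdim]) (pushT a x), degT_zero]

include hdim in
/-- The degrees of the products of the classes of `Δ`, `pt × C`, `C × pt`. -/
theorem exists_rel {g : ℕ} (hgen : Curv2.genus k C.left = g) (a b : T ⟶ C) (x : GT T) : ∃ m : ℤ,
    degT T (cD a b (cD a b x)) = m * (2 - 2 * (g : ℤ)) ∧ degT T (cP x₀ a (cD a b x)) = m ∧
    degT T (cP x₀ b (cD a b x)) = m ∧ degT T (cP x₀ a (cP x₀ b x)) = m := by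
  have hY := isIntegral_TX C
  have hf := isProper_left (lft a b)
  obtain ⟨m, hm⟩ := degT_cD_two C (T := TX C C) (dim_TX C hdim) (pushT (lft a b) x)
  have h1 := degT_cD_cD C hdim (lft a b) (pr C C) (qr C C) (pr C C) (qr C C) x
  have h2 := degT_cD_cD C hdim (lft a b) (toPt _ ≫ x₀) (pr C C) (pr C C) (qr C C) x
  have h3 := degT_cD_cD C hdim (lft a b) (toPt _ ≫ x₀) (qr C C) (pr C C) (qr C C) x
  have h4 := degT_cD_cD C hdim (lft a b) (toPt _ ≫ x₀) (pr C C) (toPt _ ≫ x₀) (qr C C) x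
  rw [hm] at h1 h2 h3 h4
  rw [← cP_comp C x₀ (lft a b)] at h2 h3 h4
  rw [← cP_comp C x₀ (lft a b)] at h4
  rw [lft_pr, lft_qr] at h1 h2 h3 h4
  have v1 := degT_DD C hdim hgen
  have v2 := degT_P1D C hdim x₀
  have v3 := degT_P2D C hdim x₀
  have v4 := degT_P1P2 C hdim x₀
  rw [cP] at v2 v3 v4
  rw [cP] at v4
  rw [v1] at h1
  rw [v2, mul_one] at h2
  rw [v3, mul_one] at h3
  rw [v4, mul_one] at h4
  exact ⟨m, h1, h2, h3, h4⟩

end gen

end K589.SubPush

namespace K553.Sub

open K589.SubPush K308.Grp Groth.Agent Groth.Agent.VBCurve.K569.SubInv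

variable {k : Type u} [Field k] [IsAlgClosed k] (C : Over (Spec (CommRingCat.of k)))
  [IsIntegral C.left] [IsProper C.hom] [Smooth C.hom] (hdim : topologicalKrullDim C.left = 1)

section rel

variable {T : Over (Spec (CommRingCat.of k))} [IsProper T.hom] (x₀ : pt (Spec (CommRingCat.of k)) ⟶ C)
  {g : ℕ} (hgen : Curv2.genus k C.left = g)

/-- `[Δ] - [pt × C] - [C × pt]` -/
noncomputable def cδ (a b : T ⟶ C) : AddMonoid.End (GT T) := cD a b - cP x₀ a - cP x₀ b

include hdim in
theorem cD_symm (a b : T ⟶ C) : cD a b = cD b a := by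
  have := hdim
  obtain ⟨e⟩ := nonempty_D_symm a b
  rw [cD, cD, C1_congr (dlt T) e]

include hdim in
theorem numZ_PP (a : T ⟶ C) : NumZ (cP x₀ a * cP x₀ a) :=
  fun x => degT_PP C hdim x₀ a x

include hdim in
theorem numZ_Pδ (a b : T ⟶ C) : NumZ (cP x₀ a * cδ C x₀ a b) := by
  intro x
  obtain ⟨g, hg⟩ : ∃ g : ℕ, Curv2.genus k C.left = g := ⟨_, rfl⟩
  obtain ⟨m, h1, h2, h3, h4⟩ := exists_rel C hdim x₀ hg a b x
  rw [end_mul_apply, cδ, end_sub_apply, end_sub_apply, map_sub, map_sub, degT_sub, degT_sub, h2, h4,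
    degT_PP C hdim]
  ring

include hdim hgen in
theorem numZ_δδ (a b : T ⟶ C) : NumZ (cδ C x₀ a b * cδ C x₀ a b + (2 * (g : ℤ)) • (cP x₀ a * cP x₀ b)) := by
  intro x
  obtain ⟨m, h1, h2, h3, h4⟩ := exists_rel C hdim x₀ hgen a b x
  have c1 : cD a b (cP x₀ a x) = cP x₀ a (cD a b x) := cD_comm C _ _ _ _ x
  have c2 : cD a b (cP x₀ b x) = cP x₀ b (cD a b x) := cD_comm C _ _ _ _ x
  have c3 : cP x₀ b (cP x₀ a x) = cP x₀ a (cP x₀ b x) := cD_comm C _ _ _ _ x
  have e : ((2 * (g : ℤ)) • (cP x₀ a * cP x₀ b)) x = (2 * (g : ℤ)) • (cP x₀ a (cP x₀ b x)) := rfl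
  rw [end_add_apply, end_mul_apply, e, cδ]
  simp only [end_sub_apply, map_sub]
  rw [c1, c2, c3]
  simp only [degT_add, degT_sub, degT_zsmul, h1, h2, h3, h4, degT_PP C hdim]
  ring

include hdim in
theorem numZ_N (N : C.left.Modules) (hN : PicF.IsInvertible N) (a : T ⟶ C) :
    NumZ (cN N a - (Curv2.deg k C.left N 1) • cP x₀ a) := by
  intro x
  have := isProper_left a
  have h1 := pushT_cN a N hN (𝟙 C) x
  have h2 := pushT_cP a C hdim x₀ (𝟙 C) x
  rw [Category.comp_id] at h1 h2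
  obtain ⟨m, hm⟩ := degT_one (T := C) (by rw [hdim]) (pushT a x)
  have e : ((Curv2.deg k C.left N 1) • cP x₀ a) x = (Curv2.deg k C.left N 1) • (cP x₀ a x) := rfl
  have e1 : cN N (𝟙 C) (pushT a x) = C1 (dlt C) N (pushT a x) := by
    rw [cN]
    exact DFunLike.congr_fun (C1_congr (dlt C) ((Scheme.Modules.pullbackId _).app N)) _
  have h3 := degT_cP_fund C hdim x₀
  rw [cP, cD, end_neg_apply, degT_neg] at h3
  rw [end_sub_apply, e, degT_sub, degT_zsmul, ← degT_pushT a, h1, e1, hm, degT_C1_fund C hdim N hN,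
    ← degT_pushT a, h2, cP, cD, end_neg_apply, degT_neg, hm]
  linear_combination (-m * Curv2.deg k C.left N 1) * h3

end rel

end K553.Sub
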